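import Cfsg.Agent.Schur.TwoCert

/-!
Data for the Schur multiplier of the Tits group: the action of the root elements modulo two, class words,
certificates for the two candidates of a Sylow 2-subgroup, and generators of the odd Sylow subgroups.
-/

set_option autoImplicit false
set_option maxRecDepth 20000

namespace CfsgLib.TitsMultiplier

/-- The class words. -/
def classWords : List (List ℕ × Bool) :=
  [([27, 25, 28], true), ([28, 30], false), ([33, 24], false), ([34, 26, 36], true), ([20, 22, 19], true), ([36, 42], false), ([19, 17], false), ([14, 23], false), ([37, 32], false), ([35, 31, 40], true), ([13, 21, 11], true), ([40, 46], false), ([11, 5], false), ([10, 15], false), ([38, 43], false), ([29, 41, 44], true), ([12, 16, 7], true), ([44, 47], false), ([7, 1], false), ([9, 4], false), ([39, 45], false), ([18, 6, 3], true), ([3, 0], false), ([8, 2], false)]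

/-- The construction of the class words from earlier ones. -/
def classParent : List (ℕ × Fin 2) :=
  [(0, 0), (1, 0), (2, 0), (0, 1), (0, 0), (1, 1), (1, 0), (2, 1), (2, 0), (3, 0), (4, 1), (5, 0), (6, 1), (7, 0), (8, 1), (9, 1), (10, 0), (11, 1), (12, 0), (13, 1), (14, 0), (16, 1), (18, 1), (19, 0)]

/-- The displacements of all root elements with parameter one. -/
def rootTable : List (List (ℕ × ℕ)) :=
  [[(3, 16), (28, 32), (30, 64), (33, 128), (35, 256), (36, 512), (40, 2048), (42, 4096), (43, 8192), (44, 32768), (46, 524288), (47, 1048576), (48, 4194304), (49, 33554432), (50, 134217728), (51, 21)], [(2, 32), (3, 32), (27, 16), (29, 64), (32, 128), (34, 256), (36, 1024), (39, 2048), (41, 4096), (43, 16384), (44, 65536), (45, 524288), (47, 2097152), (48, 8388608), (49, 67108864), (50, 45), (51, 268435456)], [(2, 64), (25, 16), (26, 32), (31, 128), (34, 512), (35, 1024), (38, 2048), (41, 8192), (42, 16384), (44, 131072), (45, 1048576), (46, 2097152), (48, 16777216), (49, 73), (50, 536870912), (51, 1073741824)], [(0, 128), (37, 2048), (38, 4096), (39, 8192), (40, 16384), (41, 32768),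 (42, 65536), (43, 131072), (44, 262144), (45, 4194320), (46, 8388640), (47, 16777280), (48, 130), (49, 2147483904), (50, 4294967808), (51, 8589935616)], [(2, 256), (20, 16), (21, 32), (24, 128), (29, 512), (30, 1024), (37, 4096), (39, 32768), (40, 65536), (43, 262144), (45, 33554432), (46, 67108864), (47, 267), (48, 2147483648), (50, 17179869184), (51, 34359738368)], [(2, 512), (3, 512), (19, 16), (21, 64), (23, 128), (26, 256), (28, 1024), (37, 8192), (38, 32768), (40, 131072), (42, 262144), (45, 134217728), (46, 527), (47, 536870912), (48, 4294967296), (49, 17179869184), (51, 68719476736)], [(3, 1024), (19, 32), (20, 64), (22, 128), (25, 256), (27, 512), (37, 16384), (38, 65536), (39, 131072), (41, 262144), (45, 1031), (46, 268435456), (47, 1073741824), (48, 8589934592), (49, 34359738368), (50, 68719476736)], [(0, 2048), (1, 2048), (18, 128), (31, 4096), (32, 8192), (33, 16384), (34, 32784), (35, 65568), (36, 131136), (41, 4194304), (42, 8388608), (43, 16777216), (44, 2051), (48, 137438953472), (49, 274878431232), (50, 549756862464), (51, 1099513724928)], [(1, 4096), (2, 4096), (17, 128),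 (24, 2048), (29, 8208), (30, 16416), (32, 32768), (33, 65536), (36, 262400), (39, 4194304), (40, 8388608), (43, 4097), (44, 2147483648), (47, 137439477760), (48, 274877906944), (50, 2199056809984), (51, 4398113619968)], [(1, 8192), (2, 8192), (3, 8192), (16, 128), (23, 2048), (26, 4112), (28, 16448), (31, 32768), (33, 131072), (35, 262656), (38, 4194304), (40, 16777216), (42, 8193), (44, 4294967296), (46, 137440002048), (48, 549755813888), (49, 2199157473280), (51, 8796629893120)], [(1, 16384), (3, 16384), (15, 128), (22, 2048), (25, 4128), (27, 8256), (31, 65536), (32, 131072), (34, 263168), (38, 8388608), (39, 16777216), (41, 16385), (44, 8589934592), (45, 137441050624), (48, 1099511627776), (49, 4398314946560), (50, 8797166764032)], [(0, 32768), (1, 32768), (3, 32768), (14, 128), (21, 2064), (23, 4096), (24, 8192), (28, 65792), (30, 131584), (33, 262144), (37, 4194304), (40, 32771), (42, 2147483648), (43, 4294967296), (46, 274911461376), (47, 549890031616), (48, 2199023255552), (51, 17609365913600)], [(0, 65536), (1, 65536), (2, 65536), (3, 65536), (13, 128), (20, 2080), (22, 4096),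 (24, 16384), (27, 33024), (29, 132096), (32, 262144), (37, 8388608), (39, 65539), (41, 2147483648), (43, 8589934592), (45, 274945015808), (47, 1099780063232), (48, 4398046511104), (50, 17626545782784)], [(0, 131072), (1, 131072), (2, 131072), (12, 128), (19, 2112), (22, 8192), (23, 16384), (25, 33280), (26, 66560), (31, 262144), (37, 16777216), (38, 131075), (41, 4294967296), (42, 8589934592), (45, 550292684800), (46, 1100585369600), (48, 8796093022208), (49, 17660905521152)], [(1, 262144), (11, 128), (19, 4352), (20, 8704), (21, 17408), (22, 32768), (23, 65536), (24, 131072), (37, 262145), (38, 2147483648), (39, 4294967296), (40, 8589934592), (45, 2216203124736), (46, 4432406249472), (47, 8864812498944), (48, 17592186044416)], [(2, 524288), (9, 16), (10, 32), (17, 2048), (18, 4096), (29, 1048576), (30, 2097152), (32, 4194304), (33, 8388608), (34, 33554432), (35, 67108864), (36, 524298), (43, 137438953472), (44, 274877906944), (50, 35184372088832), (51, 70368744177664)], [(2, 1048576), (3, 1048576), (8, 16), (10, 64), (16, 2048), (18, 8192), (26, 524288), (28, 2097152), (31, 4194304), (33,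 16777216), (34, 134217728), (35, 1048590), (36, 536870912), (42, 137438953472), (44, 549755813888), (49, 35184372088832), (51, 140737488355328)], [(3, 2097152), (8, 32), (9, 64), (15, 2048), (18, 16384), (25, 524288), (27, 1048576), (31, 8388608), (32, 16777216), (34, 2097158), (35, 268435456), (36, 1073741824), (41, 137438953472), (44, 1099511627776), (49, 70368744177664), (50, 140737488355328)], [(0, 4194304), (3, 4194304), (10, 144), (14, 2048), (16, 4096), (17, 8192), (18, 32768), (28, 8912896), (30, 17825792), (33, 4194306), (35, 2181038080), (36, 4429185024), (40, 137438953472), (42, 274877906944), (43, 549755813888), (44, 2199023255552), (51, 316659348799488)], [(0, 8388608), (2, 8388608), (3, 8388608), (9, 160), (13, 2048), (15, 4096), (17, 16384), (18, 65536), (27, 4718592), (29, 18874368), (32, 8388610), (34, 2214592512), (36, 8858370048), (39, 137438953472), (41, 274877906944), (43, 1099511627776), (44, 4398046511104), (50, 351843720888320)], [(0, 16777216), (2, 16777216), (8, 192), (12, 2048), (15, 8192), (16, 16384), (18, 131072), (25, 5242880), (26, 10485760), (31, 16777218),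 (34, 4831838208), (35, 9663676416), (38, 137438953472), (41, 549755813888), (42, 1099511627776), (44, 8796093022208), (49, 422212465065984)], [(2, 33554432), (3, 33554432), (6, 16), (10, 256), (14, 4096), (17, 32768), (21, 524288), (24, 4194304), (28, 67108864), (29, 134217728), (30, 33554444), (33, 2147483648), (36, 17179869184), (40, 274877906944), (43, 2199023255552), (47, 35184372088832), (51, 562949953421312)], [(3, 67108864), (6, 32), (9, 256), (13, 4096), (17, 65536), (20, 524288), (24, 8388608), (27, 33554432), (29, 67108868), (30, 268435456), (32, 2147483648), (36, 34359738368), (39, 274877906944), (43, 4398046511104), (47, 70368744177664), (50, 562949953421312)], [(2, 134217728), (5, 16), (10, 512), (14, 8192), (16, 32768), (21, 1048576), (23, 4194304), (26, 33554432), (28, 134217736), (30, 536870912), (33, 4294967296), (35, 17179869184), (40, 549755813888), (42, 2199023255552), (46, 35184372088832), (51, 1125899906842624)], [(2, 268435456), (4, 32), (9, 1024), (13, 16384), (15, 65536), (20, 2097152), (22, 8388608), (25, 67108864), (27, 268435464), (29, 1073741824), (32, 8589934592),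 (34, 34359738368), (39, 1099511627776), (41, 4398046511104), (45, 70368744177664), (50, 2251799813685248)], [(3, 536870912), (5, 64), (8, 512), (12, 8192), (16, 131072), (19, 1048576), (23, 16777216), (25, 134217728), (26, 536870916), (28, 1073741824), (31, 4294967296), (35, 68719476736), (38, 549755813888), (42, 8796093022208), (46, 140737488355328), (49, 1125899906842624)], [(2, 1073741824), (3, 1073741824), (4, 64), (8, 1024), (12, 16384), (15, 131072), (19, 2097152), (22, 16777216), (25, 1073741836), (26, 268435456), (27, 536870912), (31, 8589934592), (34, 68719476736), (38, 1099511627776), (41, 8796093022208), (45, 140737488355328), (49, 2251799813685248)], [(0, 2147483648), (2, 2147483648), (6, 384), (11, 4096), (13, 32768), (14, 65536), (17, 262144), (20, 37748736), (21, 75497472), (24, 2147483650), (29, 21474836480), (30, 42949672960), (37, 274877906944), (39, 2199023255552), (40, 4398046511104), (43, 17592186044416), (47, 844424930131968)], [(0, 4294967296), (2, 4294967296), (3, 4294967296), (5, 640), (11, 8192), (12, 32768), (14, 131072), (16, 262144), (19, 138412032), (21, 553648128),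 (23, 4294967298), (26, 19327352832), (28, 77309411328), (37, 549755813888), (38, 2199023255552), (40, 8796093022208), (42, 17592186044416), (46, 1407374883553280)], [(0, 8589934592), (3, 8589934592), (4, 1152), (11, 16384), (12, 65536), (13, 131072), (15, 262144), (19, 276824064), (20, 1090519040), (22, 8589934594), (25, 36507222016), (27, 73014444032), (37, 1099511627776), (38, 4398046511104), (39, 8796093022208), (41, 17592186044416), (45, 2533274790395904)], [(3, 17179869184), (5, 256), (6, 512), (11, 32768), (14, 262144), (19, 33554432), (20, 134217728), (21, 17179869190), (23, 2147483648), (24, 4294967296), (28, 34359738368), (30, 68719476736), (37, 2199023255552), (40, 17592186044416), (46, 562949953421312), (47, 1125899906842624)], [(2, 34359738368), (3, 34359738368), (4, 256), (6, 1024), (11, 65536), (13, 262144), (19, 67108864), (20, 34359738382), (21, 268435456), (22, 2147483648), (24, 8589934592), (27, 17179869184), (29, 68719476736), (37, 4398046511104), (39, 17592186044416), (45, 562949953421312), (47, 2251799813685248)], [(2, 68719476736), (4, 512), (5, 1024), (11, 131072),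 (12, 262144), (19, 68719476746), (20, 536870912), (21, 1073741824), (22, 4294967296), (23, 8589934592), (25, 17179869184), (26, 34359738368), (37, 8796093022208), (38, 17592186044416), (45, 1125899906842624), (46, 2251799813685248)], [(1, 137438953472), (7, 2048), (8, 528384), (9, 1056768), (10, 2113536), (15, 4194304), (16, 8388608), (17, 16777216), (18, 137438953473), (31, 274877906944), (32, 549755813888), (33, 1099511627776), (34, 37383395344384), (35, 74766790688768), (36, 149533581377536), (44, 281474976710656)], [(0, 274877906944), (1, 274877906944), (2, 274877906944), (6, 526336), (7, 4096), (9, 33587200), (10, 67174400), (13, 4194304), (14, 8388608), (17, 274877906947), (18, 2147483648), (24, 137438953472), (29, 35734127902720), (30, 71468255805440), (32, 2199023255552), (33, 4398046511104), (36, 580542139465728), (43, 281474976710656)], [(0, 549755813888), (1, 549755813888), (2, 549755813888), (3, 549755813888), (5, 1050624), (7, 8192), (8, 134250496), (10, 537001984), (12, 4194304), (14, 16777216), (16, 549755813891), (18, 4294967296), (23, 137438953472), (26, 35459249995776),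 (28, 141836999983104), (31, 2199023255552), (33, 8796093022208), (35, 1143492092887040), (42, 281474976710656)], [(0, 1099511627776), (1, 1099511627776), (3, 1099511627776), (4, 2099200), (7, 16384), (8, 268500992), (9, 1073872896), (12, 8388608), (13, 16777216), (15, 1099511627779), (18, 8589934592), (22, 137438953472), (25, 70643622084608), (27, 141287244169216), (31, 4398046511104), (32, 8796093022208), (34, 2269391999729664), (41, 281474976710656)], [(1, 2199023255552), (3, 2199023255552), (5, 33558528), (6, 134225920), (7, 32768), (10, 17180131328), (11, 4194304), (14, 2199023255553), (16, 2147483648), (17, 4294967296), (21, 35321811042304), (23, 274877906944), (24, 549755813888), (28, 567347999932416), (30, 1134695999864832), (33, 17592186044416), (40, 281474976710656)], [(1, 4398046511104), (2, 4398046511104), (3, 4398046511104), (4, 67112960), (6, 268451840), (7, 65536), (9, 34360000512), (11, 8388608), (13, 4398046511105), (15, 2147483648), (17, 8589934592), (20, 70506183131136), (22, 274877906944), (24, 1099511627776), (27, 565148976676864), (29, 2260595906707456), (32, 17592186044416),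 (39, 281474976710656)], [(1, 8796093022208), (2, 8796093022208), (4, 536879104), (5, 1073758208), (7, 131072), (8, 68719738880), (11, 16777216), (12, 8796093022209), (15, 4294967296), (16, 8589934592), (19, 140874927308800), (22, 549755813888), (23, 1099511627776), (25, 1128098930098176), (26, 2256197860196352), (31, 17592186044416), (38, 281474976710656)], [(0, 17592186044416), (1, 17592186044416), (4, 17179901952), (5, 34359803904), (6, 68719607808), (7, 262144), (11, 17592186044419), (12, 2147483648), (13, 4294967296), (14, 8589934592), (19, 563224831328256), (20, 1126449662656512), (21, 2252899325313024), (22, 2199023255552), (23, 4398046511104), (24, 8796093022208), (37, 281474976710656)], [(3, 35184372088832), (5, 524288), (6, 1048576), (7, 4194304), (8, 33554432), (9, 134217728), (10, 35184372088839), (14, 137438953472), (16, 274877906944), (17, 549755813888), (18, 2199023255552), (28, 70368744177664), (30, 140737488355328), (33, 281474976710656), (35, 562949953421312), (36, 1125899906842624)], [(2, 70368744177664), (3, 70368744177664), (4, 524288), (6, 2097152), (7, 8388608), (8,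 67108864), (9, 70368744177679), (10, 268435456), (13, 137438953472), (15, 274877906944), (17, 1099511627776), (18, 4398046511104), (27, 35184372088832), (29, 140737488355328), (32, 281474976710656), (34, 562949953421312), (36, 2251799813685248)], [(2, 140737488355328), (4, 1048576), (5, 2097152), (7, 16777216), (8, 140737488355339), (9, 536870912), (10, 1073741824), (12, 137438953472), (15, 549755813888), (16, 1099511627776), (18, 8796093022208), (25, 35184372088832), (26, 70368744177664), (31, 281474976710656), (34, 1125899906842624), (35, 2251799813685248)], [(0, 281474976710656), (4, 35184376283136), (5, 70368752566272), (6, 140737505132544), (7, 281474976710658), (8, 562952100904960), (9, 1125904201809920), (10, 2251808403619840), (11, 137438953472), (12, 274877906944), (13, 549755813888), (14, 1099511627776), (15, 2199023255552), (16, 4398046511104), (17, 8796093022208), (18, 17592186044416)], [(2, 562949953421312), (4, 33554432), (5, 67108864), (6, 562949953421321), (7, 2147483648), (9, 17179869184), (10, 34359738368), (11, 274877906944), (13, 2199023255552), (14, 4398046511104),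 (17, 17592186044416), (20, 35184372088832), (21, 70368744177664), (24, 281474976710656), (29, 1125899906842624), (30, 2251799813685248)], [(2, 1125899906842624), (3, 1125899906842624), (4, 134217728), (5, 1125899906842637), (6, 536870912), (7, 4294967296), (8, 17179869184), (10, 68719476736), (11, 549755813888), (12, 2199023255552), (14, 8796093022208), (16, 17592186044416), (19, 35184372088832), (21, 140737488355328), (23, 281474976710656), (26, 562949953421312), (28, 2251799813685248)], [(3, 2251799813685248), (4, 2251799813685253), (5, 268435456), (6, 1073741824), (7, 8589934592), (8, 34359738368), (9, 68719476736), (11, 1099511627776), (12, 4398046511104), (13, 8796093022208), (15, 17592186044416), (19, 70368744177664), (20, 140737488355328), (22, 281474976710656), (25, 562949953421312), (27, 1125899906842624)]]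

/-- The generators of `certP`. -/
def certPGens : List (List ℕ) :=
  [[17], [11], [20], [14], [8], [5], [9, 15], [1], [3, 9], [2], [0, 3], [1, 6, 1, 6, 1], [2, 7, 2]]

/-- The rewriting rules of `certP`. -/
def certPRules : List (List ℕ × List ℕ) :=
  [([0, 0], []),
    ([0, 1], [1, 0]),
    ([1, 1], []),
    ([0, 2], [2, 0]),
    ([1, 2], [2, 1]),
    ([2, 2], []),
    ([0, 3], [3, 0]),
    ([1, 3], [3, 1]),
    ([2, 3], [3, 2]),
    ([3, 3], []),
    ([0, 4], [4, 0]),
    ([1, 4], [4, 1]),
    ([2, 4], [4, 2]),
    ([3, 4], [4, 3]),
    ([4, 4], []),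
    ([0, 5], [5, 0]),
    ([1, 5], [5, 1]),
    ([2, 5], [5, 2]),
    ([3, 5], [5, 3]),
    ([4, 5], [5, 4, 0]),
    ([5, 5], []),
    ([0, 6], [6, 0]),
    ([1, 6], [6, 1]),
    ([2, 6], [6, 2]),
    ([3, 6], [6, 3, 0]),
    ([4, 6], [6, 4, 1]),
    ([5, 6], [6, 5]),
    ([6, 6], [2, 1, 0]),
    ([0, 7], [7, 0]),
    ([1, 7], [7, 1]),
    ([2, 7], [7, 2]),
    ([3, 7], [7, 3, 1]),
    ([4, 7], [7, 4]),
    ([5, 7], [7, 5, 2, 1, 0]),
    ([6, 7], [7, 6]),
    ([7, 7], []),
    ([0, 8], [8, 0]),
    ([1, 8], [8, 1]),
    ([2, 8], [8, 2, 0]),
    ([3, 8], [8, 3, 0]),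
    ([4, 8], [8, 4, 2, 1, 0]),
    ([5, 8], [8, 5]),
    ([6, 8], [8, 6, 3, 2, 0]),
    ([7, 8], [8, 7, 4, 1, 0]),
    ([8, 8], [5, 1]),
    ([0, 9], [9, 0]),
    ([1, 9], [9, 1, 0]),
    ([2, 9], [9, 2]),
    ([3, 9], [9, 3]),
    ([4, 9], [9, 4, 3, 2]),
    ([5, 9], [9, 5]),
    ([6, 9], [9, 6, 3, 0]),
    ([7, 9], [9, 7, 6, 5, 4, 3, 2, 0]),
    ([8, 9], [9, 8, 5, 3, 0]),
    ([9, 9], []),
    ([0, 10], [10, 0]),
    ([1, 10], [10, 1]),
    ([2, 10], [10, 2, 1, 0]),
    ([3, 10], [10, 3, 2, 1]),
    ([4, 10], [10, 4, 2, 1, 0]),
    ([5, 10], [10, 5, 3, 1, 0]),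
    ([6, 10], [10, 6, 4, 3, 2, 0]),
    ([7, 10], [10, 7, 4, 1, 0]),
    ([8, 10], [10, 8, 6, 1]),
    ([9, 10], [10, 9, 8, 6, 5, 4, 1]),
    ([10, 10], [7, 6, 5, 4, 0]),
    ([11, 0], [0, 11]),
    ([11, 5], [1, 11]),
    ([11, 1], [5, 11]),
    ([11, 3], [2, 11]),
    ([11, 2], [3, 11]),
    ([11, 9], [4, 11]),
    ([11, 4], [9, 11]),
    ([11, 8], [8, 11]),
    ([11, 8, 6, 1], [6, 11]),
    ([12, 1], [0, 12]),
    ([12, 0], [1, 12]),
    ([12, 2], [2, 12]),
    ([12, 4], [3, 12]),
    ([12, 3], [4, 12]),
    ([12, 7], [5, 12]),
    ([12, 5], [7, 12]),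
    ([12, 6], [6, 2, 12]),
    ([12, 10], [10, 6, 4, 3, 2, 1, 0, 12]),
    ([12, 10, 8, 5], [8, 6, 1, 12])]

/-- The consistency checks of `certP`. -/
def certPEqs : List (List ℕ × List (ℕ × ℕ × Bool) × List (ℕ × ℕ × Bool)) :=
  [([1, 4, 5], [(0, 11, true), (1, 16, true), (0, 19, true), (2, 1, true)], [(1, 19, true), (0, 16, true), (1, 11, true)]),
    ([2, 4, 5], [(0, 12, true), (1, 17, true), (0, 19, true), (2, 3, true)], [(1, 19, true), (0, 17, true), (1, 12, true)]),
    ([3, 4, 5], [(0, 13, true), (1, 18, true), (0, 19, true), (2, 6, true)], [(1, 19, true), (0, 18, true), (1, 13, true)]),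
    ([4, 4, 5], [(0, 14, true)], [(1, 19, true), (0, 19, true), (2, 10, true), (1, 14, true), (1, 0, true)]),
    ([4, 5, 5], [(0, 19, true), (2, 15, true), (1, 19, true), (0, 20, true), (1, 0, true)], [(1, 20, true)]),
    ([3, 3, 6], [(0, 9, true)], [(1, 24, true), (0, 24, true), (2, 6, true), (1, 9, true), (1, 0, true)]),
    ([2, 4, 6], [(0, 12, true), (1, 23, true), (0, 25, true), (2, 4, true)], [(1, 25, true), (0, 23, true), (1, 12, true)]),
    ([3, 4, 6], [(0, 13, true), (1, 24, true), (0, 25, true), (2, 7, true)], [(1, 25, true), (0, 24, true), (2, 10, true), (1, 13, true), (3, 1, true)]),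
    ([4, 4, 6], [(0, 14, true)], [(1, 25, true), (0, 25, true), (2, 11, true), (1, 14, true), (1, 2, true)]),
    ([4, 5, 6], [(0, 19, true), (2, 21, true), (1, 25, true), (0, 26, true)], [(1, 26, true), (0, 25, true), (2, 16, true), (1, 19, true), (3, 1, true)]),
    ([3, 6, 6], [(0, 24, true), (2, 21, true), (1, 24, true), (0, 27, true), (2, 6, true), (1, 7, true), (0, 8, true), (3, 0, true)], [(1, 27, true)]),
    ([4, 6, 6], [(0, 25, true), (2, 22, true), (1, 25, true), (0, 27, true), (2, 10, true), (1, 11, true), (0, 12, true), (3, 1, true), (2, 2, true), (2, 1, true)], [(1, 27, true)]),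
    ([5, 6, 6], [(0, 26, true), (1, 26, true), (0, 27, true), (2, 15, true), (1, 16, true), (0, 17, true)], [(1, 27, true)]),
    ([6, 6, 6], [(0, 27, true), (2, 21, true), (1, 22, true), (0, 23, true)], [(1, 27, true)]),
    ([3, 3, 7], [(0, 9, true)], [(1, 31, true), (0, 31, true), (2, 7, true), (1, 9, true), (1, 2, true)]),
    ([4, 5, 7], [(0, 19, true), (2, 28, true), (1, 32, true), (0, 33, true), (4, 10, true), (3, 11, true), (2, 12, true), (5, 0, true)], [(1, 33, true), (0, 32, true), (1, 19, true), (3, 3, true), (4, 1, true), (5, 0, true)]),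
    ([5, 5, 7], [(0, 20, true)], [(1, 33, true), (0, 33, true), (4, 15, true), (3, 16, true), (2, 17, true), (1, 20, true), (3, 3, true), (2, 4, true), (1, 5, true), (2, 1, true), (1, 2, true), (1, 0, true)]),
    ([4, 6, 7], [(0, 25, true), (2, 29, true), (1, 32, true), (0, 34, true)], [(1, 34, true), (0, 32, true), (1, 25, true)]),
    ([6, 6, 7], [(0, 27, true), (2, 28, true), (1, 29, true), (0, 30, true)], [(1, 34, true), (0, 34, true), (1, 27, true)]),
    ([3, 4, 8], [(0, 13, true), (1, 39, true), (0, 40, true), (4, 6, true), (3, 7, true), (2, 8, true), (5, 0, true)], [(1, 40, true), (0, 39, true), (2, 10, true), (1, 13, true), (3, 3, true), (4, 1, true), (5, 0, true)]),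
    ([4, 4, 8], [(0, 14, true)], [(1, 40, true), (0, 40, true), (4, 10, true), (3, 11, true), (2, 12, true), (1, 14, true), (3, 3, true), (2, 4, true), (1, 5, true), (2, 1, true), (1, 2, true), (1, 0, true)]),
    ([4, 5, 8], [(0, 19, true), (2, 36, true), (1, 40, true), (0, 41, true), (5, 0, true)], [(1, 41, true), (0, 40, true), (4, 15, true), (3, 16, true), (2, 17, true), (1, 19, true), (3, 3, true), (4, 1, true), (5, 0, true)]),
    ([4, 6, 8], [(0, 25, true), (2, 37, true), (1, 40, true), (0, 42, true), (4, 10, true), (3, 12, true), (2, 13, true), (5, 3, true), (4, 5, true), (4, 1, true), (5, 0, true), (4, 2, true)], [(1, 42, true), (0, 40, true), (4, 21, true), (3, 22, true), (2, 23, true), (1, 25, true), (3, 4, true), (4, 2, true), (4, 6, true), (3, 8, true), (5, 3, true), (4, 5, true), (4, 0, true)]),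
    ([5, 6, 8], [(0, 26, true), (1, 41, true), (0, 42, true), (4, 15, true), (3, 17, true), (2, 18, true)], [(1, 42, true), (0, 41, true), (1, 26, true)]),
    ([6, 6, 8], [(0, 27, true), (2, 36, true), (1, 37, true), (0, 38, true), (2, 1, true), (3, 0, true)], [(1, 42, true), (0, 42, true), (4, 21, true), (3, 23, true), (2, 24, true), (1, 27, true), (3, 6, true), (2, 7, true), (1, 8, true), (4, 0, true), (3, 4, true), (2, 5, true), (3, 6, true), (2, 7, true), (1, 9, true), (2, 3, true), (1, 4, true), (3, 0, true)]),
    ([5, 7, 8], [(0, 33, true), (4, 36, true), (3, 37, true), (2, 38, true), (1, 41, true), (0, 43, true), (4, 15, true), (3, 16, true), (2, 19, true), (4, 1, true), (5, 0, true), (4, 4, true), (6, 1, true), (5, 2, true), (5, 0, true)], [(1, 43, true), (0, 41, true), (1, 33, true), (5, 10, true), (4, 11, true), (3, 12, true), (6, 1, true), (5, 2, true), (5, 0, true)]),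
    ([6, 7, 8], [(0, 34, true), (1, 42, true), (0, 43, true), (4, 21, true), (3, 22, true), (2, 25, true), (4, 2, true), (4, 6, true), (5, 3, true), (6, 0, true)], [(1, 43, true), (0, 42, true), (4, 28, true), (3, 30, true), (2, 31, true), (1, 34, true), (4, 4, true), (6, 10, true), (5, 11, true), (4, 12, true), (3, 13, true), (7, 1, true), (6, 2, true), (6, 0, true)]),
    ([7, 7, 8], [(0, 35, true)], [(1, 43, true), (0, 43, true), (4, 28, true), (3, 29, true), (2, 32, true), (1, 35, true), (3, 10, true), (2, 11, true), (1, 14, true), (2, 1, true), (1, 2, true), (1, 0, true)]),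
    ([6, 8, 8], [(0, 42, true), (4, 36, true), (3, 38, true), (2, 39, true), (1, 42, true), (0, 44, true), (1, 22, true), (0, 26, true), (2, 7, true), (3, 4, true), (5, 6, true), (4, 7, true), (3, 8, true), (2, 9, true), (4, 0, true), (3, 4, true), (2, 5, true), (3, 0, true)], [(1, 44, true)]),
    ([7, 8, 8], [(0, 43, true), (4, 36, true), (3, 37, true), (2, 40, true), (1, 43, true), (0, 44, true), (1, 29, true), (0, 33, true), (4, 1, true), (3, 2, true), (3, 10, true), (2, 12, true), (4, 1, true), (5, 0, true), (4, 11, true), (3, 12, true), (2, 14, true), (3, 4, true), (2, 5, true), (2, 2, true), (2, 1, true), (3, 0, true)], [(1, 44, true)]),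
    ([8, 8, 8], [(0, 44, true), (1, 37, true), (0, 41, true)], [(1, 44, true)]),
    ([4, 4, 9], [(0, 14, true)], [(1, 49, true), (0, 49, true), (3, 12, true), (2, 13, true), (1, 14, true), (2, 8, true), (1, 9, true), (1, 5, true)]),
    ([4, 5, 9], [(0, 19, true), (2, 45, true), (1, 49, true), (0, 50, true)], [(1, 50, true), (0, 49, true), (3, 17, true), (2, 18, true), (1, 19, true), (3, 6, true), (4, 3, true)]),
    ([4, 6, 9], [(0, 25, true), (2, 46, true), (1, 49, true), (0, 51, true), (3, 10, true), (2, 13, true), (4, 6, true), (3, 9, true), (3, 3, true), (4, 1, true), (5, 0, true)], [(1, 51, true), (0, 49, true), (3, 23, true), (2, 24, true), (1, 25, true), (3, 7, true), (5, 3, true), (4, 4, true), (6, 6, true), (5, 7, true), (4, 8, true), (3, 9, true), (5, 0, true)]),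
    ([6, 6, 9], [(0, 27, true), (2, 45, true), (1, 46, true), (0, 47, true), (3, 0, true)], [(1, 51, true), (0, 51, true), (3, 21, true), (2, 24, true), (1, 27, true), (3, 6, true), (2, 7, true), (1, 8, true), (4, 0, true), (4, 6, true), (3, 7, true), (2, 8, true), (1, 9, true), (3, 0, true)]),
    ([5, 7, 9], [(0, 33, true), (4, 45, true), (3, 46, true), (2, 47, true), (1, 50, true), (0, 52, true), (7, 15, true), (6, 17, true), (5, 18, true), (4, 19, true), (3, 20, true), (4, 6, true), (5, 3, true), (6, 0, true), (5, 5, true), (6, 0, true)], [(1, 52, true), (0, 50, true), (1, 33, true), (5, 21, true), (4, 22, true), (3, 23, true), (2, 26, true), (6, 15, true), (5, 16, true), (4, 17, true), (3, 20, true), (5, 10, true), (4, 11, true), (3, 12, true), (6, 6, true), (5, 7, true), (4, 8, true), (7, 3, true), (6, 4, true), (5, 5, true), (6, 0, true)]),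
    ([7, 7, 9], [(0, 35, true)], [(1, 52, true), (0, 52, true), (7, 28, true), (6, 30, true), (5, 31, true), (4, 32, true), (3, 33, true), (2, 34, true), (1, 35, true), (5, 10, true), (4, 11, true), (3, 12, true), (6, 6, true), (5, 7, true), (4, 8, true), (7, 1, true), (6, 2, true), (6, 3, true), (5, 5, true), (5, 0, true), (4, 24, true), (3, 25, true), (2, 26, true), (1, 27, true), (3, 15, true), (2, 16, true), (1, 17, true), (4, 10, true), (3, 11, true), (2, 12, true), (5, 1, true), (4, 2, true), (4, 6, true), (3, 8, true), (5, 0, true), (4, 17, true), (3, 18, true), (2, 19, true), (1, 20, true), (2, 6, true), (3, 3, true), (4, 10, true), (3, 12, true), (2, 13, true), (1, 14, true), (3, 6, true), (2, 8, true), (1, 9, true), (2, 3, true), (1, 5, true), (1, 0, true)]),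
    ([6, 8, 9], [(0, 42, true), (4, 45, true), (3, 47, true), (2, 48, true), (1, 51, true), (0, 53, true), (4, 21, true), (3, 24, true), (2, 26, true), (5, 0, true), (4, 9, true), (4, 6, true), (5, 3, true), (6, 0, true)], [(1, 53, true), (0, 51, true), (3, 36, true), (2, 39, true), (1, 42, true), (5, 6, true), (4, 8, true), (3, 9, true), (4, 0, true), (4, 15, true), (3, 17, true), (5, 6, true), (4, 8, true), (6, 0, true)]),
    ([7, 8, 9], [(0, 43, true), (4, 45, true), (3, 46, true), (2, 49, true), (1, 52, true), (0, 53, true), (4, 28, true), (3, 31, true), (2, 33, true), (6, 6, true), (5, 7, true), (4, 8, true), (7, 1, true), (6, 2, true), (6, 0, true), (5, 23, true), (4, 24, true), (3, 26, true), (6, 3, true), (7, 15, true), (6, 17, true), (5, 18, true), (4, 20, true), (6, 10, true), (5, 12, true), (4, 13, true), (7, 6, true), (6, 8, true), (5, 9, true), (6, 3, true), (5, 5, true), (5, 0, true), (4, 14, true), (7, 0, true)], [(1, 53, true), (0, 52, true), (7, 36, true), (6, 38, true), (5, 39, true), (4, 40, true), (3, 41, true), (2, 42, true), (1, 43, true), (5, 21, true), (4, 22, true),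 (3, 25, true), (5, 2, true), (5, 6, true), (6, 3, true), (7, 0, true), (6, 17, true), (5, 18, true), (4, 19, true), (6, 6, true), (7, 3, true), (8, 10, true), (7, 12, true), (6, 13, true), (5, 14, true), (7, 3, true), (6, 5, true), (6, 1, true), (7, 0, true), (6, 7, true), (5, 9, true), (6, 3, true), (5, 4, true), (7, 0, true), (7, 15, true), (6, 16, true), (5, 17, true), (4, 20, true), (6, 6, true), (5, 7, true), (4, 8, true), (7, 0, true)]),
    ([8, 8, 9], [(0, 44, true), (1, 46, true), (0, 50, true)], [(1, 53, true), (0, 53, true), (4, 36, true), (3, 39, true), (2, 41, true), (1, 44, true), (2, 16, true), (1, 20, true), (1, 7, true), (3, 0, true), (2, 16, true), (1, 18, true), (3, 7, true), (2, 9, true)]),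
    ([7, 9, 9], [(0, 52, true), (7, 45, true), (6, 47, true), (5, 48, true), (4, 49, true), (3, 50, true), (2, 51, true), (1, 52, true), (0, 54, true), (6, 21, true), (5, 23, true), (4, 24, true), (3, 25, true), (2, 26, true), (1, 27, true), (3, 15, true), (2, 16, true), (1, 17, true), (4, 10, true), (3, 11, true), (2, 12, true), (5, 1, true), (4, 2, true), (4, 6, true), (3, 8, true), (5, 0, true), (4, 5, true), (4, 6, true), (3, 9, true), (3, 0, true), (2, 19, true), (1, 20, true), (2, 10, true), (1, 14, true), (1, 6, true), (2, 3, true), (3, 6, true), (2, 8, true), (1, 9, true), (2, 3, true), (1, 5, true), (1, 0, true)], [(1, 54, true)]),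
    ([4, 5, 10], [(0, 19, true), (2, 55, true), (1, 59, true), (0, 60, true), (4, 10, true), (3, 11, true), (2, 13, true), (5, 3, true), (4, 4, true), (6, 1, true), (5, 2, true), (5, 0, true)], [(1, 60, true), (0, 59, true), (4, 15, true), (3, 16, true), (2, 17, true), (1, 19, true), (3, 3, true), (4, 1, true), (5, 0, true), (4, 7, true), (3, 8, true), (5, 2, true)]),
    ([5, 5, 10], [(0, 20, true)], [(1, 60, true), (0, 60, true), (4, 15, true), (3, 16, true), (2, 18, true), (1, 20, true), (3, 6, true), (2, 7, true), (1, 9, true), (2, 1, true), (1, 2, true), (1, 0, true)]),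
    ([4, 6, 10], [(0, 25, true), (2, 56, true), (1, 59, true), (0, 61, true), (5, 10, true), (4, 12, true), (3, 13, true), (2, 14, true), (4, 3, true), (3, 5, true), (3, 1, true), (4, 0, true), (3, 2, true)], [(1, 61, true), (0, 59, true), (4, 21, true), (3, 22, true), (2, 23, true), (1, 25, true), (3, 4, true), (4, 2, true), (4, 10, true), (3, 12, true), (2, 14, true), (3, 6, true), (2, 8, true), (4, 3, true), (3, 5, true), (3, 0, true)]),
    ([6, 6, 10], [(0, 27, true), (2, 55, true), (1, 56, true), (0, 57, true), (3, 1, true), (2, 2, true), (2, 0, true)], [(1, 61, true), (0, 61, true), (5, 21, true), (4, 23, true), (3, 24, true), (2, 25, true), (1, 27, true), (3, 10, true), (2, 11, true), (1, 12, true), (4, 1, true), (3, 2, true), (3, 6, true), (2, 8, true), (4, 0, true), (3, 5, true), (3, 10, true), (2, 13, true), (1, 14, true), (2, 6, true), (1, 9, true), (1, 3, true), (2, 0, true)]),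
    ([5, 7, 10], [(0, 33, true), (4, 55, true), (3, 56, true), (2, 57, true), (1, 60, true), (0, 62, true), (4, 15, true), (3, 16, true), (2, 19, true), (4, 1, true), (5, 0, true), (4, 7, true), (5, 2, true), (5, 3, true), (6, 1, true), (7, 0, true), (6, 2, true)], [(1, 62, true), (0, 60, true), (4, 28, true), (3, 29, true), (2, 31, true), (1, 33, true), (5, 6, true), (4, 7, true), (3, 8, true), (6, 1, true), (5, 2, true), (5, 1, true), (6, 0, true), (5, 11, true), (4, 12, true), (3, 13, true), (6, 2, true)]),
    ([6, 8, 10], [(0, 42, true), (4, 55, true), (3, 57, true), (2, 58, true), (1, 61, true), (0, 63, true), (3, 22, true), (2, 27, true), (4, 1, true), (3, 2, true), (3, 10, true), (2, 12, true), (4, 6, true), (3, 8, true), (5, 3, true), (4, 5, true), (4, 0, true), (3, 9, true), (4, 4, true), (3, 5, true), (3, 2, true), (3, 0, true)], [(1, 63, true), (0, 61, true), (5, 36, true), (4, 38, true), (3, 39, true), (2, 40, true), (1, 42, true), (5, 10, true), (4, 12, true), (3, 13, true), (6, 3, true), (5, 5, true), (5, 1, true), (6, 0, true), (5, 7, true), (4, 9, true), (5, 3, true), (4,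 4, true), (6, 0, true), (6, 21, true), (5, 22, true), (4, 23, true), (3, 25, true), (2, 27, true), (4, 10, true), (3, 11, true), (2, 12, true), (5, 1, true), (4, 2, true), (4, 3, true), (3, 5, true), (3, 1, true), (4, 0, true), (3, 2, true)]),
    ([7, 8, 10], [(0, 43, true), (4, 55, true), (3, 56, true), (2, 59, true), (1, 62, true), (0, 63, true), (3, 29, true), (2, 34, true), (4, 11, true), (5, 2, true), (5, 10, true), (4, 14, true), (4, 3, true), (5, 1, true), (6, 0, true), (5, 2, true)], [(1, 63, true), (0, 62, true), (4, 36, true), (3, 37, true), (2, 40, true), (1, 43, true), (5, 10, true), (4, 11, true), (3, 14, true), (4, 3, true), (3, 4, true), (5, 1, true), (4, 2, true), (4, 0, true), (5, 21, true), (4, 22, true), (3, 23, true), (6, 1, true), (5, 2, true)]),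
    ([8, 8, 10], [(0, 44, true), (1, 56, true), (0, 60, true), (4, 1, true), (3, 2, true)], [(1, 63, true), (0, 63, true), (3, 37, true), (2, 42, true), (1, 44, true), (2, 22, true), (1, 26, true), (3, 7, true), (4, 4, true), (6, 1, true), (5, 2, true), (5, 21, true), (4, 23, true), (3, 24, true), (2, 26, true), (1, 27, true), (3, 15, true), (2, 16, true), (1, 17, true), (4, 6, true), (3, 7, true), (2, 8, true), (5, 0, true), (4, 4, true), (3, 5, true), (4, 1, true), (3, 2, true)]),
    ([7, 9, 10], [(0, 52, true), (7, 55, true), (6, 57, true), (5, 58, true), (4, 59, true), (3, 60, true), (2, 61, true), (1, 62, true), (0, 64, true), (6, 29, true), (5, 32, true), (4, 33, true), (3, 34, true), (8, 10, true), (7, 11, true), (6, 12, true), (9, 1, true), (8, 2, true), (8, 10, true), (7, 12, true), (6, 14, true), (7, 1, true), (8, 0, true), (7, 22, true), (6, 23, true), (5, 26, true), (4, 27, true), (6, 15, true), (5, 16, true), (4, 17, true), (7, 3, true), (6, 4, true), (5, 5, true), (6, 1, true), (5, 2, true), (5, 10, true), (6, 6, true), (7, 3, true), (8, 0, true), (7, 17, true), (6, 18, true),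 (5, 19, true), (4, 20, true), (5, 6, true), (6, 3, true), (7, 6, true), (6, 8, true), (5, 9, true), (6, 1, true), (7, 0, true), (6, 11, true), (5, 12, true), (4, 14, true), (5, 4, true), (4, 5, true), (4, 2, true), (4, 6, true), (5, 3, true), (6, 1, true), (7, 3, true), (6, 4, true), (5, 5, true), (6, 1, true), (5, 2, true), (5, 0, true)], [(1, 64, true), (0, 62, true), (4, 45, true), (3, 46, true), (2, 49, true), (1, 52, true), (8, 10, true), (7, 12, true), (6, 13, true), (5, 14, true), (7, 6, true), (6, 8, true), (5, 9, true), (6, 3, true), (5, 5, true), (5, 1, true), (6, 0, true), (6, 36, true), (5, 37, true), (4, 41, true), (3, 42, true), (2, 43, true), (6, 21, true), (5, 22, true), (4, 25, true), (6, 2, true), (6, 6, true), (7, 3, true), (8, 0, true), (7, 17, true), (6, 18, true), (5, 19, true), (7, 6, true), (8, 3, true), (9, 1, true), (10, 0, true), (9, 22, true), (8, 23, true), (7, 24, true), (6, 25, true), (5, 26, true), (4, 27, true), (6, 15, true), (5, 16, true), (4, 17, true), (7, 10, true), (6, 11, true), (5, 12, true), (8, 1, true), (7, 2, true), (7, 6, true), (6, 8, true),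 (8, 0, true), (7, 5, true), (7, 16, true), (6, 18, true), (5, 19, true), (4, 20, true), (5, 6, true), (6, 1, true), (7, 10, true), (6, 11, true), (5, 13, true), (4, 14, true), (6, 1, true), (5, 2, true)]),
    ([9, 9, 10], [(0, 54, true)], [(1, 64, true), (0, 64, true), (6, 46, true), (5, 49, true), (4, 50, true), (3, 51, true), (2, 53, true), (1, 54, true), (4, 21, true), (3, 24, true), (2, 26, true), (5, 0, true), (4, 9, true), (4, 15, true), (3, 20, true), (3, 10, true), (4, 6, true), (5, 3, true), (6, 1, true), (7, 0, true), (6, 37, true), (5, 38, true), (4, 39, true), (3, 40, true), (2, 42, true), (1, 44, true), (2, 22, true), (1, 26, true), (3, 7, true), (4, 4, true), (6, 10, true), (5, 11, true), (4, 12, true), (3, 13, true), (7, 3, true), (6, 4, true), (5, 5, true), (6, 1, true), (5, 2, true), (5, 0, true), (4, 9, true), (4, 3, true), (5, 0, true), (5, 22, true), (4, 23, true), (3, 25, true), (2, 26, true), (1, 27, true), (3, 15, true), (2, 16, true), (1, 17, true), (4, 10, true), (3, 11, true), (2, 12, true), (5, 1, true), (4, 2, true), (4, 3, true), (3, 5, true), (3, 1, true),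 (4, 15, true), (3, 16, true), (2, 19, true), (1, 20, true), (2, 1, true), (3, 0, true), (2, 11, true), (1, 14, true), (1, 2, true)]),
    ([9, 10, 10], [(0, 64, true), (6, 56, true), (5, 59, true), (4, 60, true), (3, 61, true), (2, 63, true), (1, 64, true), (0, 65, true), (4, 45, true), (3, 49, true), (2, 50, true), (1, 51, true), (0, 52, true), (7, 21, true), (6, 23, true), (5, 24, true), (4, 25, true), (3, 26, true), (2, 27, true), (4, 15, true), (3, 16, true), (2, 17, true), (5, 10, true), (4, 11, true), (3, 12, true), (6, 1, true), (5, 2, true), (5, 6, true), (4, 8, true), (6, 0, true), (5, 5, true), (5, 6, true), (4, 9, true), (4, 0, true), (3, 19, true), (2, 20, true), (3, 10, true), (2, 14, true), (2, 6, true), (3, 3, true), (4, 0, true), (3, 38, true), (2, 39, true), (1, 43, true), (5, 6, true), (4, 7, true), (6, 0, true), (5, 4, true), (7, 21, true), (6, 22, true), (5, 23, true), (4, 24, true), (3, 25, true), (5, 7, true), (7, 3, true), (6, 4, true), (8, 1, true), (7, 2, true), (7, 0, true), (6, 17, true), (5, 18, true), (4, 19, true), (6, 6, true), (7, 3, true), (8, 10, true),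 (7, 12, true), (6, 13, true), (5, 14, true), (7, 1, true), (8, 36, true), (7, 37, true), (6, 38, true), (5, 39, true), (4, 41, true), (3, 42, true), (2, 43, true), (1, 44, true), (2, 29, true), (1, 33, true), (5, 1, true), (4, 2, true), (4, 10, true), (3, 12, true), (5, 1, true), (6, 0, true), (5, 22, true), (4, 23, true), (3, 25, true), (2, 26, true), (5, 4, true), (6, 2, true), (5, 8, true), (6, 5, true), (6, 15, true), (5, 18, true), (4, 19, true), (3, 20, true), (4, 6, true), (5, 0, true), (4, 9, true), (4, 3, true), (5, 0, true), (6, 21, true), (5, 22, true), (4, 23, true), (3, 25, true), (2, 27, true), (4, 10, true), (3, 11, true), (2, 12, true), (5, 1, true), (4, 2, true), (4, 3, true), (3, 5, true), (3, 1, true), (4, 0, true), (3, 2, true), (2, 25, true), (4, 11, true), (3, 14, true), (3, 7, true), (4, 4, true), (6, 15, true), (5, 16, true), (4, 17, true), (3, 18, true), (7, 6, true), (6, 7, true), (5, 8, true), (4, 9, true), (6, 1, true), (5, 2, true), (5, 0, true), (4, 12, true), (5, 5, true), (6, 1, true), (5, 2, true)], [(1, 65, true)]),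
    ([10, 10, 10], [(0, 65, true), (4, 55, true), (3, 59, true), (2, 60, true), (1, 61, true), (0, 62, true), (4, 21, true), (3, 22, true), (2, 25, true), (4, 2, true), (4, 10, true), (3, 14, true), (3, 6, true), (4, 3, true), (5, 0, true), (4, 17, true), (3, 18, true), (5, 8, true), (4, 9, true), (6, 10, true), (5, 11, true), (4, 12, true), (7, 3, true), (6, 4, true), (5, 5, true), (6, 1, true), (5, 2, true), (5, 0, true)], [(1, 65, true)]),
    ([11, 5, 5], [(0, 67, true), (1, 67, true), (0, 2, true)], [(1, 20, true)]),
    ([11, 5, 4], [(0, 67, true), (1, 72, true), (0, 46, true)], [(3, 0, false), (1, 19, false), (0, 72, true), (1, 67, true), (2, 66, true)]),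
    ([11, 9, 9], [(0, 71, true), (1, 71, true), (0, 14, true)], [(1, 54, true)]),
    ([11, 9, 4], [(0, 71, true), (1, 72, true), (0, 49, true)], [(3, 9, false), (4, 5, false), (1, 49, false), (0, 72, true), (1, 71, true), (2, 70, true), (3, 69, true)]),
    ([11, 9, 8], [(0, 71, true), (1, 73, true), (0, 40, true)], [(3, 0, false), (3, 20, false), (4, 15, false), (4, 9, false), (5, 6, false), (1, 53, false), (0, 73, true), (1, 71, true), (2, 69, true), (3, 67, true), (4, 66, true)]),
    ([11, 9, 8, 6, 1], [(0, 71, true), (1, 74, true), (0, 25, true)], [(4, 20, false), (5, 16, false), (6, 0, false), (5, 1, false), (5, 9, false), (6, 0, false), (3, 26, false), (4, 24, false), (5, 21, false), (1, 53, false), (2, 51, false), (3, 46, false), (0, 74, true), (1, 71, true), (2, 67, true)]),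
    ([11, 4, 8], [(0, 72, true), (1, 73, true)], [(1, 40, true), (0, 73, true), (1, 72, true), (2, 70, true), (3, 68, true), (4, 66, true), (0, 53, true), (4, 6, true), (3, 9, true), (3, 15, true), (2, 20, true), (2, 0, true)]),
    ([12, 2, 10], [(0, 77, true), (1, 83, true), (0, 57, true), (3, 21, true), (2, 22, true), (1, 23, true), (4, 10, true), (3, 11, true), (2, 12, true), (5, 6, true), (4, 7, true), (3, 8, true), (6, 3, true), (5, 4, true), (4, 5, true), (5, 1, true), (4, 2, true), (4, 0, true)], [(1, 57, true), (3, 1, false), (0, 83, true), (7, 77, true), (8, 76, true), (9, 75, true), (6, 3, true), (5, 4, true), (4, 5, true), (5, 1, true), (4, 2, true), (4, 0, true)]),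
    ([12, 2, 10, 8, 5], [(0, 77, true), (1, 84, true), (0, 38, true), (2, 21, true), (1, 23, true), (3, 1, true)], [(1, 57, true), (4, 36, true), (3, 37, true), (2, 38, true), (4, 1, true), (5, 0, true), (4, 16, true), (3, 17, true), (0, 84, true), (3, 77, true), (4, 75, true), (2, 4, true)]),
    ([12, 4, 10], [(0, 78, true), (1, 83, true), (0, 58, true), (3, 22, true), (2, 23, true), (1, 24, true), (3, 3, true), (4, 1, true), (5, 10, true), (4, 11, true), (3, 12, true), (2, 13, true), (6, 6, true), (5, 7, true), (4, 8, true), (3, 9, true), (5, 3, true), (4, 4, true), (3, 5, true), (4, 1, true), (3, 2, true), (3, 0, true)], [(1, 59, true), (4, 1, false), (0, 83, true), (7, 78, true), (8, 77, true), (9, 76, true), (10, 75, true), (6, 6, true), (5, 7, true), (4, 8, true), (3, 9, true), (5, 3, true), (4, 4, true), (3, 5, true), (4, 1, true), (3, 2, true), (3, 0, true)]),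
    ([12, 4, 10, 8, 5], [(0, 78, true), (1, 84, true), (0, 39, true), (2, 21, true), (1, 24, true), (3, 0, true)], [(1, 59, true), (5, 36, true), (4, 37, true), (3, 38, true), (2, 40, true), (6, 3, true), (5, 4, true), (4, 5, true), (5, 0, true), (4, 2, true), (4, 15, true), (3, 19, true), (5, 0, true), (0, 84, true), (3, 78, true), (2, 7, true)]),
    ([12, 7, 7], [(0, 80, true), (1, 80, true), (0, 20, true)], [(1, 35, true)]),
    ([12, 7, 10], [(0, 80, true), (1, 83, true), (0, 60, true), (4, 21, true), (3, 22, true), (2, 24, true), (1, 26, true), (4, 1, true), (5, 0, true), (4, 11, true), (3, 13, true), (5, 7, true), (4, 9, true), (4, 4, true), (5, 2, true)], [(1, 62, true), (4, 1, false), (0, 83, true), (7, 80, true), (8, 78, true), (9, 76, true), (10, 75, true), (6, 15, true), (5, 16, true), (4, 17, true), (3, 18, true), (2, 19, true), (4, 6, true), (5, 3, true), (6, 1, true), (7, 0, true), (6, 7, true), (5, 8, true), (4, 9, true), (5, 2, true)]),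
    ([12, 5, 10], [(0, 81, true), (1, 83, true), (0, 62, true), (4, 21, true), (3, 22, true), (2, 25, true), (4, 2, true), (4, 10, true), (3, 14, true), (3, 6, true), (4, 3, true), (5, 1, true), (6, 0, true)], [(1, 60, true), (4, 1, false), (0, 83, true), (7, 81, true), (8, 79, true), (9, 76, true), (10, 75, true), (6, 28, true), (5, 29, true), (4, 30, true), (3, 31, true), (2, 32, true), (1, 34, true), (5, 4, true), (6, 2, true), (6, 10, true), (5, 12, true), (4, 13, true), (3, 14, true), (5, 1, true), (6, 0, true)]),
    ([12, 10, 10], [(0, 83, true), (7, 83, true), (6, 55, true), (5, 56, true), (4, 57, true), (3, 58, true), (2, 59, true), (1, 61, true), (0, 65, true), (4, 21, true), (3, 25, true), (2, 26, true), (1, 27, true), (3, 15, true), (2, 16, true), (1, 17, true), (4, 10, true), (3, 11, true), (2, 12, true), (5, 1, true), (4, 2, true), (4, 0, true), (3, 12, true), (2, 14, true), (2, 8, true), (3, 5, true), (3, 10, true), (2, 13, true), (4, 3, true), (5, 1, true), (6, 0, true), (5, 7, true), (4, 8, true), (3, 9, true), (4, 4, true), (3, 5, true), (3, 2, true), (5, 1, true), (4,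 2, true), (4, 0, true), (3, 23, true), (2, 25, true), (1, 26, true), (4, 4, true), (5, 11, true), (4, 12, true), (3, 14, true), (4, 7, true), (3, 8, true), (5, 4, true), (4, 5, true), (4, 2, true)], [(1, 65, true), (5, 2, false), (6, 1, false), (5, 5, false), (6, 4, false), (7, 3, false), (4, 12, false), (5, 11, false), (6, 10, false), (1, 34, false), (2, 33, false), (0, 82, true), (2, 81, true), (3, 80, true), (4, 78, true), (5, 77, true), (6, 75, true), (1, 30, true), (0, 34, true), (2, 17, true), (3, 8, true), (4, 5, true)]),
    ([12, 10, 10, 8, 5], [(0, 83, true), (7, 84, true), (6, 36, true), (5, 37, true), (4, 38, true), (3, 39, true), (2, 40, true), (1, 42, true), (5, 10, true), (4, 12, true), (3, 13, true), (6, 3, true), (5, 5, true), (5, 1, true), (6, 0, true), (5, 7, true), (4, 9, true), (5, 3, true), (4, 4, true), (6, 0, true), (5, 2, true), (5, 21, true), (4, 23, true), (3, 25, true), (2, 27, true), (4, 10, true), (3, 11, true), (2, 12, true), (5, 1, true), (4, 2, true), (4, 3, true), (3, 5, true), (3, 0, true)], [(1, 65, true), (5, 36, true), (4, 40, true), (3, 41, true),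 (2, 42, true), (1, 43, true), (5, 21, true), (4, 22, true), (3, 25, true), (5, 2, true), (5, 6, true), (6, 3, true), (7, 0, true), (6, 17, true), (5, 18, true), (4, 19, true), (6, 6, true), (7, 3, true), (8, 10, true), (7, 12, true), (6, 13, true), (5, 14, true), (7, 3, true), (6, 5, true), (6, 1, true), (7, 0, true), (7, 15, true), (6, 16, true), (5, 18, true), (4, 20, true), (5, 1, false), (5, 5, false), (4, 8, false), (3, 23, false), (4, 0, false), (4, 2, false), (5, 1, false), (3, 9, false), (4, 8, false), (5, 7, false), (6, 6, false), (3, 20, false), (4, 18, false), (5, 17, false), (6, 16, false), (7, 15, false), (6, 1, false), (6, 2, false), (7, 0, false), (4, 8, false), (5, 7, false), (6, 6, false), (3, 17, false), (4, 16, false), (5, 15, false), (3, 27, false), (4, 26, false), (5, 24, false), (6, 22, false), (7, 21, false), (7, 0, false), (6, 1, false), (6, 5, false), (7, 3, false), (5, 14, false), (6, 13, false), (7, 12, false), (8, 10, false), (7, 3, false), (6, 6, false), (4, 19, false), (5, 18, false), (6, 17, false), (7, 0, false), (6, 3, false), (5, 6, false), (5, 2, false),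 (3, 25, false), (4, 22, false), (5, 21, false), (1, 43, false), (2, 42, false), (3, 41, false), (4, 40, false), (5, 36, false), (1, 65, false), (2, 63, false), (3, 60, false), (0, 84, true), (3, 83, true), (10, 82, true), (12, 79, true), (13, 77, true), (14, 76, true), (15, 75, true), (2, 56, true), (1, 61, true), (0, 63, true), (3, 22, true), (2, 27, true), (4, 1, true), (3, 2, true), (3, 10, true), (2, 12, true), (4, 6, true), (3, 8, true), (5, 3, true), (4, 5, true), (4, 0, true), (4, 22, true), (3, 24, true), (2, 25, true), (4, 7, true), (6, 1, true), (5, 2, true), (5, 10, true), (4, 13, true), (3, 14, true), (4, 6, true), (3, 9, true), (3, 3, true), (4, 1, true), (5, 0, true), (4, 22, true), (3, 23, true), (2, 27, true), (4, 3, true), (3, 4, true), (2, 5, true), (3, 1, true), (2, 2, true), (2, 3, true), (3, 10, true), (2, 12, true), (4, 3, true), (3, 5, true), (3, 1, true), (4, 0, true)]),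
    ([12, 10, 8, 5, 10, 8, 5], [(0, 84, true), (3, 84, true), (2, 37, true), (1, 42, true), (0, 44, true), (1, 22, true), (0, 26, true), (2, 7, true), (3, 4, true), (5, 1, true), (4, 2, true), (4, 21, true), (3, 23, true), (2, 24, true), (1, 26, true), (0, 27, true), (2, 15, true), (1, 16, true), (0, 17, true), (3, 6, true), (2, 7, true), (1, 8, true), (4, 0, true), (3, 4, true), (2, 5, true), (3, 1, true), (2, 2, true)], [(3, 60, true), (2, 63, true), (1, 65, true), (5, 36, true), (4, 40, true), (3, 41, true), (2, 42, true), (1, 43, true), (5, 21, true), (4, 22, true), (3, 25, true), (5, 2, true), (5, 6, true), (6, 3, true), (7, 0, true), (6, 17, true), (5, 18, true), (4, 19, true), (6, 6, true), (7, 3, true), (8, 10, true), (7, 12, true), (6, 13, true), (5, 14, true), (7, 3, true), (6, 5, true), (6, 1, true), (7, 0, true), (7, 21, true), (6, 22, true), (5, 24, true), (4, 26, true), (3, 27, true), (5, 15, true), (4, 16, true), (3, 17, true), (6, 6, true), (5, 7, true), (4, 8, true), (7, 0, true), (6, 2, true), (6, 1, true), (7, 15, true), (6, 16, true), (5, 17, true), (4, 18, true), (3,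 20, true), (6, 6, true), (5, 7, true), (4, 8, true), (3, 9, true), (5, 1, true), (4, 2, true), (4, 0, true), (3, 38, true), (2, 43, true), (1, 44, true), (2, 29, true), (1, 33, true), (5, 1, true), (4, 2, true), (4, 10, true), (3, 12, true), (5, 1, true), (6, 0, true), (5, 4, true), (4, 5, true), (5, 15, true), (4, 16, true), (3, 19, true), (2, 20, true), (3, 1, true), (4, 0, true), (0, 80, true), (1, 78, true), (2, 75, true)])]

/-- The certificate `certP`. -/
def certP : CfsgLib.Schur.TwoCert.Cert where
  n := 11
  rules := certPRules
  eqs := certPEqs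
  masks := [2, 8, 64, 1025, 32769, 65, 16, 1154, 2052, 2162690, 2097601, 4201476, 229376, 14680064, 132, 268442634, 229439, 536870912, 1879048192, 1482, 7231, 68719706122, 137453647186, 425984, 481063600939, 481036966931, 3529522266, 5100293127, 893424501600, 1314796882994, 2336462209024, 13088, 35184372482120, 70368769352978, 246290623496705, 246290687270289, 33808054153, 458015398592584, 677104142975441, 1199086150877697, 4398046775072775, 36028797019205008, 361159, 72057594052616530, 252201579193596713, 252201582086175049, 468376354155412929, 684548466761793554, 1224983634296144231, 4504283760386969974, 13042269752585415, 13339158735271952202, 8682940081610578802, 1048580, 73787046663582908417, 18014398509498368, 1770887431076116955680, 811665747541987721793, 147585281957609669122, 1549535510490369786433, 113336795588871499816386, 37779075978351406678033, 264453387731828616477704, 576462882626633917, 34360786944, 415574015100051904244058, 717805470003734647943258, 8953610274256573935234597, 5704622242135167702519300, 1548983476166721324213113]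
  gauge := [524288, 33554432, 168296448, 4398214283264, 8796127100928, 17592219598848, 4534385953472512, 36897996145093509120, 18451252071416987648, 0, 0]
  picks := [36, 1, 16557, 2, 64, 86218, 4, 173, 524422, 4398054920213, 44, 16813, 1134977, 4400203977176, 57176879832570, 52, 525834, 529982, 8918538, 0, 9007199254757549, 525323, 1136813, 1670310, 4398105325192, 0, 51599383293, 0, 1150979, 131072, 1544195, 4400270941497, 57177013161200, 9232531037915021775, 9223523821278099837, 18455751272964309165, 2101251, 4400206651574, 4400243812078, 53985965280, 9232583814995197322, 4401280393398, 0, 0, 0, 4303355954, 10788291357, 32220739997, 4561555192638, 53068408378593, 9007812666524126, 6464865093253, 0, 9224703812702193861, 36085973898796538, 6599226687538, 13196296483099, 46179556309885, 9232614652608511414, 9216229601322282, 294669180805093, 9233303223976586418, 9228663162219071255, 2952729167885618, 0, 0]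

/-- Invariant sets separating the generators of `certP`. -/
def certPOrbits : List (List ℕ) :=
  [[1], [2], [536870912], [4294967296], [8589934592], [68719476736], [4398046511104], [1099511627776, 282574488338432], [8796093022208], [17592186044416], [8796093022208, 290271069732864]]

/-- Two elements of order five and an element exchanging them. -/
def fiveWords : List (List ℕ) :=
  [[1, 6, 17, 22], [1, 6, 22, 17], [6, 17, 1]]

/-- Two elements of order three and an element inverting them. -/
def threeWords : List (List ℕ) :=
  [[2, 7], [2, 22, 13, 14, 8, 22, 2, 22, 8, 14, 13, 22, 2, 22, 13, 14, 8, 22, 2, 22, 8, 14, 13, 22], [2]]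

/-- An element of order thirteen. -/
def thirteenWord : List ℕ :=
  [18, 8, 2]

end CfsgLib.TitsMultiplier
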